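import Groth.Agent.GrRep86.Rep
import Groth.Agent.GrRep86.AffPts

/-!
# Affine space charts of Grassmannians
-/

set_option autoImplicit false
set_option maxHeartbeats 1000000

universe u

open TensorProduct CategoryTheory AlgebraicGeometry Groth.Agent.LG86 MvPolynomial
open Groth.Agent.Chow (Pr str)

noncomputable section

namespace Groth.Agent.GrRep86

variable {R : Type u} [CommRing R] {d r : ℕ} {hrd : r ≤ d} {A : Type u} [CommRing A] [Algebra R A]

theorem plucker_tri_preimage (j : Fin (top d r + 1)) (t : Fin r → Fin (d - r) → A) :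
    plucker hrd (grass (isUnit_dt_tri (k := R) (hrd := hrd) j t)) ⁻¹ᵁ
      Proj.basicOpen (CohB1.polyGrading (top d r) R) (X j) = ⊤ := by
  have hw := isUnit_dt_tri (k := R) (hrd := hrd) j t
  rw [plucker_of_basis hw (grass hw) fun a => Submodule.subset_span (Set.mem_range_self a)]
  exact pv_preimage _ hw

theorem grass_tri_injective (j : Fin (top d r + 1)) (t t' : Fin r → Fin (d - r) → A)
    (h : grass (isUnit_dt_tri (k := R) (hrd := hrd) j t) = grass (isUnit_dt_tri (k := R) (hrd := hrd) j t')) :
    t = t' := by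
  funext a
  have hspan := congrArg Module.Grassmannian.toSubmodule h
  rw [grass_toSubmodule, grass_toSubmodule] at hspan
  have key : ∀ t₀ : Fin r → Fin (d - r) → A,
      stdB (k := R) A d (cpl hrd j a) + ∑ b, (-(t₀ a b)) • stdB A d (kap d r j b) = tri hrd j t₀ a := fun t₀ => by
    simp only [tri, neg_smul', Finset.sum_neg_distrib]
    exact (sub_eq_add_neg _ _).symm
  have h1 := eq_of_sub_mem (isUnit_dt_tri (k := R) (hrd := hrd) j t') (fun b => -(t a b)) (fun b => -(t' a b))
    (stdB A d (cpl hrd j a))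
    (by rw [key t, ← hspan]; exact Submodule.subset_span (Set.mem_range_self a))
    (by rw [key t']; exact Submodule.subset_span (Set.mem_range_self a))
  funext b
  exact neg_injective (congrFun h1 b)

theorem exists_tri_of_preimage (j : Fin (top d r + 1)) (N : Module.Grassmannian A (M (k := R) A d) (d - r))
    (h : plucker hrd N ⁻¹ᵁ Proj.basicOpen (CohB1.polyGrading (top d r) R) (X j) = ⊤) :
    ∃ t, grass (isUnit_dt_tri (k := R) (hrd := hrd) j t) = N := by
  obtain ⟨p, hp, hpj, hpy⟩ := exists_pv (plucker hrd N) (plucker_str N) j h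
  have hE := (good_iff_eqs (k := R) (hrd := hrd) j p hp hpj).mp ⟨N, hpy⟩
  refine ⟨fun a b => cf (k := R) hrd j p a b, plucker_injective hrd ?_⟩
  have hw := isUnit_dt_cand (k := R) (hrd := hrd) j p
  refine (plucker_of_basis hw _ fun a => Submodule.subset_span (Set.mem_range_self a)).trans ?_
  rw [hpy]
  exact (pv_scale p _ hp _ _ hE).symm

theorem map_grass_tri {B : Type u} [CommRing B] [Algebra R B] (φ : A →ₐ[R] B) (j : Fin (top d r + 1))
    (t : Fin r → Fin (d - r) → A) :
    Module.Grassmannian.map φ (grass (isUnit_dt_tri (k := R) (hrd := hrd) j t)) =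
      grass (isUnit_dt_tri (k := R) (hrd := hrd) j fun a b => φ (t a b)) :=
  grass_unique _ _ fun a => by
    rw [← ch_tri]
    exact ch_mem φ (Submodule.subset_span (Set.mem_range_self a))

/-- Grassmannians of free modules are covered by affine spaces. -/
theorem exists_charts (R : Type u) [CommRing R] (hrd : r ≤ d) {σ : Type u} (eσ : σ ≃ Fin r × Fin (d - r))
    (X : Over (Spec (CommRingCat.of R)))
    (e : ∀ A : CommAlgCat.{u} R, Pts X A ≃ (Module.Grassmannian.functor (R := R) (M := Fin d → R) (d - r)).obj A)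
    (he : ∀ (A B : CommAlgCat.{u} R) (φ : A ⟶ B) (g : Pts X A) (g' : Pts X B),
      g'.left = Spec.map (CommRingCat.ofHom φ.hom.toRingHom) ≫ g.left →
        e B g' = (Module.Grassmannian.functor (R := R) (M := Fin d → R) (d - r)).map φ (e A g)) :
    ∃ (U : Fin (top d r + 1) → X.left.Opens), ⨆ i, U i = ⊤ ∧
      ∀ i, Nonempty (Over.mk ((U i).ι ≫ X.hom) ≅
        Over.mk (Spec.map (CommRingCat.ofHom (algebraMap R (MvPolynomial σ R))))) := by
  obtain ⟨Y, e', he', c₀, hc₀, hcs, hcp⟩ := exists_rep R hrd
  obtain ⟨h, hh⟩ := exists_iso_of_rep (Module.Grassmannian.functor (R := R) (M := Fin d → R) (d - r)) e he e' he'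
  let c : X.left ⟶ Pr (top d r) R := h.hom.left ≫ c₀
  have hc : ∀ (A : CommAlgCat.{u} R) (g : Pts X A), g.left ≫ c = plucker hrd (e A g) := fun A g => by
    rw [← hh A g, ← hcp A (g ≫ h.hom)]
    exact (Category.assoc _ _ _).symm
  let U : Fin (top d r + 1) → X.left.Opens := fun j =>
    c ⁻¹ᵁ Proj.basicOpen (CohB1.polyGrading (top d r) R) (MvPolynomial.X j)
  refine ⟨U, eq_top_iff.mpr fun x _ => ?_, fun j => ?_⟩
  · obtain ⟨j, hj⟩ := exists_mem_chart (c x)
    exact TopologicalSpace.Opens.mem_iSup.mpr ⟨j, hj⟩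
  let Uo : Over (Spec (CommRingCat.of R)) := Over.mk ((U j).ι ≫ X.hom)
  let T : Over (Spec (CommRingCat.of R)) :=
    Over.mk (Spec.map (CommRingCat.ofHom (algebraMap R (MvPolynomial σ R))))
  let q : ∀ A : CommAlgCat.{u} R, Pts T A → Fin r → Fin (d - r) → A := fun A g a b =>
    (Spec.preimage g.left : CommRingCat.of (MvPolynomial σ R) ⟶ CommRingCat.of A).hom
      (MvPolynomial.X (eσ.symm (a, b)))
  have hqw : ∀ (A : CommAlgCat.{u} R) (g : Pts T A) (c : R),
      (Spec.preimage g.left : CommRingCat.of (MvPolynomial σ R) ⟶ CommRingCat.of A).hom (MvPolynomial.C c) =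
        algebraMap R A c := fun A g c => by
    have h1 : CommRingCat.ofHom (algebraMap R (MvPolynomial σ R)) ≫
        (Spec.preimage g.left : CommRingCat.of (MvPolynomial σ R) ⟶ CommRingCat.of A) =
        CommRingCat.ofHom (algebraMap R A) :=
      Spec.map_injective (by rw [Spec.map_comp, Spec.map_preimage]; exact Over.w g)
    exact ConcreteCategory.congr_hom h1 c
  have hqinj : ∀ A, Function.Injective (q A) := fun A g g' hq => Over.OverMorphism.ext <| by
    rw [← Spec.map_preimage g.left, ← Spec.map_preimage g'.left]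
    congr 1
    ext : 1
    exact MvPolynomial.ringHom_ext (fun c => (hqw A g c).trans (hqw A g' c).symm) fun i => by
      have := congrFun (congrFun hq (eσ i).1) (eσ i).2
      simpa [q] using this
  have hqsurj : ∀ A, Function.Surjective (q A) := fun A t => by
    refine ⟨Over.homMk (Spec.map (CommRingCat.ofHom
      (MvPolynomial.aeval (R := R) fun i => t (eσ i).1 (eσ i).2).toRingHom)) ?_, ?_⟩
    · show _ ≫ Spec.map _ = Spec.map _
      rw [← Spec.map_comp]
      congr 1
      ext c
      simp
    · funext a b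
      simp [q]
  have hmem : ∀ (A : CommAlgCat.{u} R) (t : Fin r → Fin (d - r) → A), ∃ g : Pts Uo A,
      g.left ≫ (U j).ι = ((e A).symm (grass (isUnit_dt_tri (k := R) (hrd := hrd) j t))).left := fun A t => by
    let g₀ := (e A).symm (grass (isUnit_dt_tri (k := R) (hrd := hrd) j t))
    have hle : Set.range g₀.left ⊆ Set.range (U j).ι := by
      rintro _ ⟨x, rfl⟩
      rw [Scheme.Opens.range_ι]
      show (g₀.left ≫ c) x ∈ Proj.basicOpen (CohB1.polyGrading (top d r) R) (MvPolynomial.X j)
      rw [hc, Equiv.apply_symm_apply]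
      exact (plucker_tri_preimage j t).ge (Set.mem_univ x)
    refine ⟨Over.homMk (IsOpenImmersion.lift (U j).ι g₀.left hle) ?_, IsOpenImmersion.lift_fac _ _ _⟩
    show IsOpenImmersion.lift (U j).ι g₀.left hle ≫ (U j).ι ≫ X.hom = _
    rw [← Category.assoc, IsOpenImmersion.lift_fac]
    exact Over.w g₀
  choose F hF using hmem
  have hFinj : ∀ A, Function.Injective (F A) := fun A t t' h => by
    refine grass_tri_injective (R := R) (hrd := hrd) j t t' ((e A).symm.injective ?_)
    exact Over.OverMorphism.ext (by rw [← hF, ← hF, h])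
  have hFsurj : ∀ A, Function.Surjective (F A) := fun A g => by
    let g₁ : Pts X A := g ≫ Over.homMk (U j).ι rfl
    obtain ⟨t, ht⟩ := exists_tri_of_preimage j (e A g₁) (hrd := hrd) (eq_top_iff.mpr fun x _ => by
      rw [← hc]
      exact (g.left x).2)
    refine ⟨t, Over.OverMorphism.ext ?_⟩
    rw [← cancel_mono (U j).ι, hF, ht, Equiv.symm_apply_apply]
    rfl
  let η : ∀ A, Pts T A ≃ Pts Uo A := fun A =>
    Equiv.ofBijective (F A ∘ q A) (Function.Bijective.comp ⟨hFinj A, hFsurj A⟩ ⟨hqinj A, hqsurj A⟩)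
  have hη : Natl fun A => η A := by
    intro A B φ g g' hgg
    show (F B (q B g')).left = Spec.map (CommRingCat.ofHom φ.hom.toRingHom) ≫ (F A (q A g)).left
    have hq : q B g' = fun a b => φ.hom (q A g a b) := by
      funext a b
      have h1 : (Spec.preimage g'.left : CommRingCat.of (MvPolynomial σ R) ⟶ CommRingCat.of B) =
          (Spec.preimage g.left : CommRingCat.of (MvPolynomial σ R) ⟶ CommRingCat.of A) ≫
            CommRingCat.ofHom φ.hom.toRingHom :=
        Spec.map_injective (by rw [Spec.map_comp, Spec.map_preimage, Spec.map_preimage, hgg])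
      exact ConcreteCategory.congr_hom h1 _
    rw [← cancel_mono (U j).ι, hF, Category.assoc, hF, hq]
    let g₀ : Pts X B := Over.homMk (Spec.map (CommRingCat.ofHom φ.hom.toRingHom) ≫
        ((e A).symm (grass (isUnit_dt_tri (k := R) (hrd := hrd) j (q A g)))).left) (by
      show (_ ≫ _) ≫ X.hom = _
      rw [Category.assoc, Over.w ((e A).symm _)]
      show _ ≫ Spec.map _ = Spec.map _
      rw [← Spec.map_comp]
      congr 1
      ext c
      exact φ.hom.commutes c)
    have h2 := he A B φ _ g₀ rfl
    rw [Equiv.apply_symm_apply] at h2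
    refine congrArg CommaMorphism.left ((e B).symm_apply_eq.mpr ?_ : (e B).symm _ = g₀)
    exact ((map_grass_tri φ.hom j (q A g)).symm.trans h2.symm)
  obtain ⟨i, -⟩ := exists_iso η hη
  exact ⟨i.symm⟩

end Groth.Agent.GrRep86

end
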