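import Groth.Agent.GrRep86.Rep
import Groth.Agent.GrRep86.Sub
import Groth.Agent.GrRep86.Embed
import Groth.Agent.ProjProper.Basic
import Groth.Prelude.Def_W4c1limliniiiiLG

/-!
# Linked Grassmannians as closed subschemes of products of Grassmannians
-/

set_option autoImplicit false
set_option maxHeartbeats 1000000

universe u

open TensorProduct CategoryTheory AlgebraicGeometry Groth.Agent.LG86
open Groth.Agent.Chow (Pr str)

noncomputable section

namespace Groth.Agent.GrRep86

variable {R : Type u} [CommRing R]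

/-- Finite powers of a functor. -/
def powF (F : CommAlgCat.{u} R ⥤ Type u) (m : ℕ) : CommAlgCat.{u} R ⥤ Type u where
  obj A := Fin m → F.obj A
  map φ := ↾fun V i => F.map φ (V i)
  map_id A := by
    ext V i
    show F.map (𝟙 A) (V i) = V i
    rw [F.map_id]; rfl
  map_comp φ ψ := by
    ext V i
    show F.map (φ ≫ ψ) (V i) = F.map ψ (F.map φ (V i))
    rw [F.map_comp]; rfl

theorem str_natural {A B : CommAlgCat.{u} R} (φ : A ⟶ B) :
    Spec.map (CommRingCat.ofHom φ.hom.toRingHom) ≫ Spec.map (CommRingCat.ofHom (algebraMap R A)) =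
      Spec.map (CommRingCat.ofHom (algebraMap R B)) := by
  rw [← Spec.map_comp]
  congr 1
  ext c
  exact φ.hom.commutes c

/-- Finite powers of a proper representing scheme. -/
theorem exists_pow (F : CommAlgCat.{u} R ⥤ Type u) (Y : Over (Spec (CommRingCat.of R))) (hY : IsProper Y.hom)
    (e : ∀ A, Pts Y A ≃ F.obj A)
    (he : ∀ (A B : CommAlgCat.{u} R) (φ : A ⟶ B) (g : Pts Y A) (g' : Pts Y B),
      g'.left = Spec.map (CommRingCat.ofHom φ.hom.toRingHom) ≫ g.left → e B g' = F.map φ (e A g)) (m : ℕ) :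
    ∃ (P : Over (Spec (CommRingCat.of R))) (eP : ∀ A, Pts P A ≃ (Fin m → F.obj A)), IsProper P.hom ∧
      ∀ (A B : CommAlgCat.{u} R) (φ : A ⟶ B) (g : Pts P A) (g' : Pts P B),
        g'.left = Spec.map (CommRingCat.ofHom φ.hom.toRingHom) ≫ g.left → ∀ i, eP B g' i = F.map φ (eP A g i) := by
  induction m with
  | zero =>
    let P : Over (Spec (CommRingCat.of R)) := Over.mk (𝟙 _)
    refine ⟨P, fun A =>
      { toFun := fun _ => Fin.elim0
        invFun := fun _ => Over.homMk (Spec.map (CommRingCat.ofHom (algebraMap R A))) (Category.comp_id _)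
        left_inv := fun g => Over.OverMorphism.ext ((Over.w g).symm.trans (Category.comp_id _))
        right_inv := fun _ => funext fun i => i.elim0 }, ?_, fun A B φ g g' h i => i.elim0⟩
    show IsProper (𝟙 _)
    infer_instance
  | succ m ih =>
    obtain ⟨P, eP, hP, hePn⟩ := ih
    haveI := hY
    haveI := hP
    let Q : Over (Spec (CommRingCat.of R)) := Over.mk (Limits.pullback.fst Y.hom P.hom ≫ Y.hom)
    let q1 : Q ⟶ Y := Over.homMk (Limits.pullback.fst Y.hom P.hom)
    let q2 : Q ⟶ P := Over.homMk (Limits.pullback.snd Y.hom P.hom) Limits.pullback.condition.symm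
    have hlift : ∀ (A : CommAlgCat.{u} R) (a : Pts Y A) (b : Pts P A),
        ∃ g : Pts Q A, g ≫ q1 = a ∧ g ≫ q2 = b := fun A a b => by
      have hw : a.left ≫ Y.hom = b.left ≫ P.hom := (Over.w a).trans (Over.w b).symm
      refine ⟨Over.homMk (Limits.pullback.lift a.left b.left hw) ?_, ?_, ?_⟩
      · show Limits.pullback.lift a.left b.left hw ≫ Limits.pullback.fst Y.hom P.hom ≫ Y.hom = _
        rw [← Category.assoc, Limits.pullback.lift_fst]
        exact Over.w a
      · exact Over.OverMorphism.ext (Limits.pullback.lift_fst _ _ _)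
      · exact Over.OverMorphism.ext (Limits.pullback.lift_snd _ _ _)
    choose L hL1 hL2 using hlift
    refine ⟨Q, fun A =>
      { toFun := fun g => Fin.cons (e A (g ≫ q1)) (eP A (g ≫ q2))
        invFun := fun V => L A ((e A).symm (V 0)) ((eP A).symm (Fin.tail V))
        left_inv := fun g => by
          simp only [Fin.cons_zero, Fin.tail_cons, Equiv.symm_apply_apply]
          refine Over.OverMorphism.ext (Limits.pullback.hom_ext ?_ ?_)
          · exact congrArg CommaMorphism.left (hL1 A (g ≫ q1) (g ≫ q2))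
          · exact congrArg CommaMorphism.left (hL2 A (g ≫ q1) (g ≫ q2))
        right_inv := fun V => by
          simp only
          rw [hL1, hL2, Equiv.apply_symm_apply, Equiv.apply_symm_apply, Fin.cons_self_tail] }, ?_, ?_⟩
    · show IsProper (Limits.pullback.fst Y.hom P.hom ≫ Y.hom)
      infer_instance
    · intro A B φ g g' hgg i
      refine Fin.cases ?_ (fun i => ?_) i
      · exact he A B φ (g ≫ q1) (g' ≫ q1) (by
          show g'.left ≫ Limits.pullback.fst Y.hom P.hom = _ ≫ g.left ≫ _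
          rw [hgg, Category.assoc]; rfl)
      · exact hePn A B φ (g ≫ q2) (g' ≫ q2) (by
          show g'.left ≫ Limits.pullback.snd Y.hom P.hom = _ ≫ g.left ≫ _
          rw [hgg, Category.assoc]; rfl) i

/-- The Grassmannian of a free module is proper, any rank. -/
theorem exists_rep_proper (R : Type u) [CommRing R] (d r : ℕ) :
    ∃ (Y : Over (Spec (CommRingCat.of R)))
      (e : ∀ A : CommAlgCat.{u} R, Pts Y A ≃ (Module.Grassmannian.functor (R := R) (M := Fin d → R) (d - r)).obj A),
      IsProper Y.hom ∧ ∀ (A B : CommAlgCat.{u} R) (φ : A ⟶ B) (g : Pts Y A) (g' : Pts Y B),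
        g'.left = Spec.map (CommRingCat.ofHom φ.hom.toRingHom) ≫ g.left →
          e B g' = (Module.Grassmannian.functor (R := R) (M := Fin d → R) (d - r)).map φ (e A g) := by
  obtain ⟨r', hr', hq⟩ : ∃ r', r' ≤ d ∧ d - r = d - r' := ⟨d - (d - r), by omega, by omega⟩
  rw [hq]
  obtain ⟨Y, e, he, c, hc, hcs, -⟩ := exists_rep R hr'
  refine ⟨Y, e, ?_, he⟩
  haveI := hc
  haveI : IsProper (str (top d r') R) := ProjProper.Basic.isProper_toSpec _ R
  rw [← hcs]
  infer_instance

variable {d q : ℕ}

/-- The obstruction ideal to a map carrying one point into another. -/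
def obsMap {A : Type u} [CommRing A] [Algebra R A] (f : (Fin d → R) →ₗ[R] (Fin d → R))
    (N₁ N₂ : Module.Grassmannian A (M (k := R) A d) q) : Ideal A :=
  Ideal.span {a | ∃ (x : M (k := R) A d) (ψ : (M (k := R) A d ⧸ N₂.toSubmodule) →ₗ[A] A),
    x ∈ N₁.toSubmodule ∧ a = ψ (N₂.toSubmodule.mkQ (f.baseChange A x))}

theorem maps_map_iff {A B : Type u} [CommRing A] [Algebra R A] [CommRing B] [Algebra R B] (φ : A →ₐ[R] B)
    (f : (Fin d → R) →ₗ[R] (Fin d → R)) (N₁ N₂ : Module.Grassmannian A (M (k := R) A d) q) :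
    Submodule.map (f.baseChange B) (Module.Grassmannian.map φ N₁).toSubmodule ≤
        (Module.Grassmannian.map φ N₂).toSubmodule ↔ obsMap f N₁ N₂ ≤ RingHom.ker φ := by
  letI : Algebra A B := φ.toAlgebra
  haveI : IsScalarTower R A B := IsScalarTower.of_algebraMap_eq' φ.comp_algebraMap.symm
  have hμ : ∀ z : M (k := R) A d, Module.Grassmannian.baseChangeMkQ B N₂.toSubmodule (ch φ z) =
      (1 : B) ⊗ₜ[A] N₂.toSubmodule.mkQ z := by
    intro z
    induction z using TensorProduct.induction_on with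
    | zero => simp
    | tmul x m =>
      have hx : x ⊗ₜ[R] m = x • ((1 : A) ⊗ₜ[R] m) := by rw [smul_tmul', smul_eq_mul, mul_one]
      rw [ch_tmul, Module.Grassmannian.baseChangeMkQ, LinearMap.comp_apply, LinearEquiv.coe_coe,
        TensorProduct.AlgebraTensorModule.cancelBaseChange_symm_tmul, LinearMap.baseChange_tmul]
      conv_rhs => rw [hx, map_smul, tmul_smul, smul_tmul', Algebra.smul_def, mul_one]
      rfl
    | add x y hx hy => simp [map_add, hx, hy, tmul_add]
  have key : ∀ x : M (k := R) A d, f.baseChange B (ch φ x) ∈ (Module.Grassmannian.map φ N₂).toSubmodule ↔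
      ∀ ψ : (M (k := R) A d ⧸ N₂.toSubmodule) →ₗ[A] A, φ (ψ (N₂.toSubmodule.mkQ (f.baseChange A x))) = 0 := fun x => by
    rw [← ch_baseChange, Module.Grassmannian.map_toSubmodule, LinearMap.mem_ker, hμ, one_tmul_eq_zero_iff]
    rfl
  rw [map_toSubmodule_eq φ N₁, Submodule.map_span, Submodule.span_le, obsMap, Ideal.span_le]
  constructor
  · rintro h a ⟨x, ψ, hx, rfl⟩
    exact (key x).mp (h ⟨_, ⟨x, hx, rfl⟩, rfl⟩) ψ
  · rintro h _ ⟨_, ⟨x, hx, rfl⟩, rfl⟩
    exact (key x).mpr fun ψ => h ⟨x, ψ, hx, rfl⟩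

/-- The linked Grassmannian is a closed subscheme of the product of Grassmannians. -/
theorem exists_linked (R : Type u) [CommRing R] (d r n : ℕ) (f g : Fin n → ((Fin d → R) →ₗ[R] (Fin d → R))) :
    ∃ (X : Over (Spec (CommRingCat.of R)))
      (e : ∀ A : CommAlgCat.{u} R, Pts X A ≃ W4c1limliniiii.LGPoints R d r n f g A),
      (∀ (A B : CommAlgCat.{u} R) (φ : A ⟶ B) (x : Pts X A) (x' : Pts X B),
        x'.left = Spec.map (CommRingCat.ofHom φ.hom.toRingHom) ≫ x.left →
          ∀ i, (e B x').1 i = Module.Grassmannian.map φ.hom ((e A x).1 i)) ∧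
      IsProper X.hom := by
  obtain ⟨Y, eY, hY, heY⟩ := exists_rep_proper R d r
  obtain ⟨P, eP, hP, heP⟩ := exists_pow _ Y hY eY heY (n + 1)
  obtain ⟨Z, ι, hι, hiff⟩ := exists_closed_of_obsF
    (powF (Module.Grassmannian.functor (R := R) (M := Fin d → R) (d - r)) (n + 1)) P eP
    (fun A B φ x x' h => funext (heP A B φ x x' h))
    (fun A V => V ∈ W4c1limliniiii.LGPoints R d r n f g A)
    (fun A V => ⨆ i : Fin n, obsMap (f i) (V i.castSucc) (V i.succ) ⊔ obsMap (g i) (V i.succ) (V i.castSucc))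
    fun A B φ V => by
      rw [iSup_le_iff]
      refine forall_congr' fun i => ?_
      rw [sup_le_iff, ← maps_map_iff, ← maps_map_iff]
      rfl
  let X : Over (Spec (CommRingCat.of R)) := Over.mk (ι ≫ P.hom)
  let j : X ⟶ P := Over.homMk ι
  have hmem : ∀ (A : CommAlgCat.{u} R) (x : Pts X A), eP A (x ≫ j) ∈ W4c1limliniiii.LGPoints R d r n f g A :=
    fun A x => (hiff A (x ≫ j)).mp ⟨x.left, rfl⟩
  have hb : ∀ A, Function.Bijective (fun x : Pts X A =>
      (⟨eP A (x ≫ j), hmem A x⟩ : W4c1limliniiii.LGPoints R d r n f g A)) := fun A => by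
    refine ⟨fun x y h => ?_, fun V => ?_⟩
    · have := (eP A).injective (congrArg Subtype.val h)
      exact Over.OverMorphism.ext ((cancel_mono ι).mp (congrArg CommaMorphism.left this))
    · obtain ⟨h, hh⟩ := (hiff A ((eP A).symm V.1)).mpr (by erw [Equiv.apply_symm_apply]; exact V.2)
      refine ⟨Over.homMk h (by
        show h ≫ ι ≫ P.hom = _
        rw [← Category.assoc, hh]
        exact Over.w ((eP A).symm V.1)), Subtype.ext ?_⟩
      exact (congrArg (eP A) (Over.OverMorphism.ext hh)).trans ((eP A).apply_symm_apply V.1)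
  refine ⟨X, fun A => Equiv.ofBijective _ (hb A), fun A B φ x x' h i => ?_, ?_⟩
  · exact heP A B φ (x ≫ j) (x' ≫ j) (by
      show x'.left ≫ ι = _ ≫ x.left ≫ ι
      rw [h, Category.assoc]) i
  · haveI := hι
    haveI := hP
    show IsProper (ι ≫ P.hom)
    infer_instance

end Groth.Agent.GrRep86

end
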